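import Mathlib

/-! Counting involutions in an extraspecial group of order 32. -/

namespace CfsgLib.HJOrder

open scoped Classical

variable {P : Type*} [Group P] [Fintype P] (z : P)

/-- Sign of the square. -/
noncomputable def sgn (x : P) : ℤ := if x * x = 1 then 1 else -1

/-- Commutation sign. -/
noncomputable def chi (x d : P) : ℤ := if x * d = d * x then 1 else -1

variable (hz : z * z = 1) (hz1 : z ≠ 1) (hzc : ∀ x : P, x * z = z * x)
  (hsq : ∀ x : P, x * x = 1 ∨ x * x = z) (hcom : ∀ x d : P, d * x = x * d ∨ d * x = z * (x * d))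
  (hcen : ∀ d : P, (∀ x, x * d = d * x) → d = 1 ∨ d = z)

include hz hz1 hzc hsq hcom in
theorem sgn_mul (x d : P) : sgn (x * d) = sgn x * sgn d * chi x d := by
  have key : ∀ c : P, d * x = c * (x * d) → (∀ y, y * c = c * y) →
      (x * d) * (x * d) = c * (x * x) * (d * d) := by
    intro c hc hcc
    calc (x * d) * (x * d) = x * (d * x) * d := by group
      _ = (x * c) * (x * d) * d := by rw [hc]; group
      _ = c * (x * x) * (d * d) := by rw [hcc x]; group
  have hne : (1 : P) ≠ z := Ne.symm hz1
  rcases hcom x d with h | h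
  · have e := key 1 (by rw [one_mul]; exact h) (fun y => by simp)
    simp only [sgn, chi, h, e, if_true]
    rcases hsq x with a | a <;> rcases hsq d with b | b <;> simp [a, b, hz, hz1]
  · have e := key z h hzc
    have hnc : ¬ x * d = d * x := fun h' => hz1 (mul_eq_right.1 (h.symm.trans h'.symm))
    simp only [sgn, chi, if_neg hnc, e]
    rcases hsq x with a | a <;> rcases hsq d with b | b <;> simp [a, b, hz, hz1]

include hz hz1 hzc hsq hcom in
theorem sum_chi {d e : P} (he : ¬ e * d = d * e) : ∑ x, chi x d = 0 := by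
  have h : ∀ x, chi (e * x) d = - chi x d := by
    intro x
    have hed : d * e = z * (e * d) := (hcom e d).resolve_left fun h => he h.symm
    have hcancel : ∀ a b : P, z * a = z * b ↔ a = b := fun a b => mul_right_inj z
    rcases hcom x d with h | h
    · have h1 : ¬ e * x * d = d * (e * x) := by
        intro h'
        refine hz1 ((mul_eq_right (b := e * x * d)).1 ?_)
        calc z * (e * x * d) = z * e * (x * d) := by group
          _ = z * e * (d * x) := by rw [h]
          _ = z * (e * d) * x := by group
          _ = d * e * x := by rw [hed]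
          _ = e * x * d := by rw [h']; group
      simp [chi, h.symm, h1]
    · have h1 : e * x * d = d * (e * x) := by
        calc e * x * d = z * (z * (e * x * d)) := by rw [← mul_assoc, hz, one_mul]
          _ = z * ((z * e) * (x * d)) := by group
          _ = z * ((e * z) * (x * d)) := by rw [hzc e]
          _ = z * e * (z * (x * d)) := by group
          _ = z * (e * d) * x := by rw [← h]; group
          _ = d * (e * x) := by rw [← hed]; group
      have h2 : ¬ x * d = d * x := fun h' => hz1 (mul_eq_right.1 (h.symm.trans h'.symm))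
      simp [chi, h1, h2]
  have := Equiv.sum_comp (Equiv.mulLeft e) (fun x => chi x d)
  simp only [Equiv.coe_mulLeft, h, Finset.sum_neg_distrib] at this
  omega

include hz hz1 hzc hsq hcom hcen in
theorem sum_sq (hcard : Fintype.card P = 32) : (∑ x : P, sgn x) * (∑ x : P, sgn x) = 64 := by
  have h1 : (∑ x : P, sgn x) * (∑ x : P, sgn x) = ∑ d : P, sgn d * ∑ x : P, chi x d := by
    rw [Finset.sum_mul]
    calc ∑ x, sgn x * ∑ y, sgn y = ∑ x, ∑ d, sgn x * sgn (x * d) := by
          refine Finset.sum_congr rfl fun x _ => ?_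
          rw [Finset.mul_sum]
          exact (Equiv.sum_comp (Equiv.mulLeft x) (fun y => sgn x * sgn y)).symm
      _ = ∑ x, ∑ d, sgn d * chi x d := by
          refine Finset.sum_congr rfl fun x _ => Finset.sum_congr rfl fun d _ => ?_
          rw [sgn_mul z hz hz1 hzc hsq hcom, ← mul_assoc, ← mul_assoc,
            show sgn x * sgn x = 1 by unfold sgn; split <;> norm_num, one_mul]
      _ = _ := by rw [Finset.sum_comm]; simp only [Finset.mul_sum]
  have h2 : ∀ d : P, sgn d * ∑ x : P, chi x d = if d ∈ ({1, z} : Finset P) then 32 else 0 := by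
    intro d
    by_cases hd : ∀ x, x * d = d * x
    · have hmem : d ∈ ({1, z} : Finset P) := by rcases hcen d hd with h | h <;> simp [h]
      have hs : sgn d = 1 := by rcases hcen d hd with h | h <;> simp [sgn, h, hz]
      rw [if_pos hmem]; simp [hs, chi, hd, hcard]
    · push Not at hd
      obtain ⟨e, he⟩ := hd
      have hmem : d ∉ ({1, z} : Finset P) := by
        intro h
        simp only [Finset.mem_insert, Finset.mem_singleton] at h
        rcases h with rfl | rfl
        · simp at he
        · exact he (hzc e)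
      rw [sum_chi z hz hz1 hzc hsq hcom he, mul_zero, if_neg hmem]
  rw [h1, Finset.sum_congr rfl fun d _ => h2 d, Finset.sum_ite_mem, Finset.univ_inter,
    Finset.sum_const, Finset.card_pair (Ne.symm hz1)]
  norm_num

theorem sum_eq (hcard : Fintype.card P = 32) :
    (∑ x : P, sgn x : ℤ) = 2 * (Finset.univ.filter (fun x : P => x * x = 1)).card - 32 := by
  have h : ∀ x : P, sgn x = 2 * (if x * x = 1 then 1 else 0) - 1 := fun x => by
    unfold sgn; split <;> norm_num
  rw [Finset.sum_congr rfl fun x _ => h x, Finset.sum_sub_distrib, ← Finset.mul_sum, Finset.sum_boole]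
  simp [hcard]

include hz hz1 hzc hsq hcom hcen in
theorem card_sq_one (hcard : Fintype.card P = 32) :
    (Finset.univ.filter (fun x : P => x * x = 1)).card = 12 ∨
      (Finset.univ.filter (fun x : P => x * x = 1)).card = 20 := by
  have h := sum_sq z hz hz1 hzc hsq hcom hcen hcard
  rw [sum_eq hcard] at h
  set n := (Finset.univ.filter (fun x : P => x * x = 1)).card
  have hn : n ≤ 32 := hcard ▸ Finset.card_le_univ _
  interval_cases n <;> first | omega | (norm_num at h)

include hz hz1 hzc hsq hcom hcen in
/-- Distinct singular lines are never orthogonal in the minus type. -/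
theorem commuting_involutions (hcard : Fintype.card P = 32)
    (hn : (Finset.univ.filter (fun x : P => x * x = 1)).card = 12)
    {u w : P} (hu : u * u = 1) (hw : w * w = 1) (huw : u * w = w * u)
    (hu' : u ≠ 1 ∧ u ≠ z) (hw' : w ≠ 1 ∧ w ≠ z) : w = u ∨ w = z * u := by
  by_contra hcon
  push Not at hcon
  set S : ℤ := ∑ x : P, sgn x with hS
  have hS8 : S = -8 := by rw [hS, sum_eq hcard, hn]; norm_num
  have hnc : ∀ d, d ≠ 1 ∧ d ≠ z → ∑ x : P, chi x d = 0 := fun d hd => by
    obtain ⟨e, he⟩ : ∃ e, ¬ e * d = d * e := by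
      by_contra h; push Not at h
      rcases hcen d h with e | e
      exacts [hd.1 e, hd.2 e]
    exact sum_chi z hz hz1 hzc hsq hcom he
  have huw' : u * w ≠ 1 ∧ u * w ≠ z := by
    refine ⟨fun h => hcon.1 ?_, fun h => hcon.2 ?_⟩
    · rw [← inv_eq_of_mul_eq_one_right hu, ← inv_eq_of_mul_eq_one_right h]
    · calc w = u * (u * w) := by rw [← mul_assoc, hu, one_mul]
        _ = z * u := by rw [h, hzc]
  have huw2 : (u * w) * (u * w) = 1 := by
    calc (u * w) * (u * w) = u * (w * u) * w := by group
      _ = (u * u) * (w * w) := by rw [← huw]; group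
      _ = 1 := by rw [hu, hw, one_mul]
  have hprod : ∀ x : P, chi x u * chi x w = chi x (u * w) := by
    intro x
    have h1 := sgn_mul z hz hz1 hzc hsq hcom (x * u) w
    have h2 := sgn_mul z hz hz1 hzc hsq hcom x (u * w)
    rw [sgn_mul z hz hz1 hzc hsq hcom x u, show sgn u = 1 from if_pos hu, show sgn w = 1 from if_pos hw] at h1
    rw [show sgn (u * w) = 1 from if_pos huw2, ← mul_assoc, h1] at h2
    have hxu : chi (x * u) w = chi x w := by
      have : ∀ y, (x * u) * y = y * (x * u) ↔ _ := fun y => Iff.rfl
      unfold chi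
      have e : x * u * w = w * (x * u) ↔ x * w = w * x := by
        constructor
        · intro h
          refine mul_right_cancel (b := u) ?_
          calc x * w * u = x * u * w := by rw [mul_assoc, ← huw, ← mul_assoc]
            _ = w * x * u := by rw [h, ← mul_assoc]
        · intro h
          rw [mul_assoc, huw, ← mul_assoc, h, mul_assoc]
      simp only [e]
    rw [hxu] at h2
    have hs : sgn x = 1 ∨ sgn x = -1 := by unfold sgn; split <;> simp
    rcases hs with hs | hs <;> rw [hs] at h2 <;> linarith
  set C := Finset.univ.filter (fun x : P => x * u = u * x ∧ x * w = w * x) with hC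
  have hpt : ∀ x : P, (1 + chi x u + chi x w + chi x (u * w) : ℤ) = if x ∈ C then 4 else 0 := by
    intro x
    rw [← hprod]
    by_cases a : x * u = u * x <;> by_cases b : x * w = w * x <;> simp [chi, hC, a, b]
  have hCcard : (C.card : ℤ) = 8 := by
    have h := Finset.sum_congr rfl fun x (_ : x ∈ (Finset.univ : Finset P)) => hpt x
    rw [Finset.sum_add_distrib, Finset.sum_add_distrib, Finset.sum_add_distrib, hnc u hu', hnc w hw',
      hnc _ huw', Finset.sum_ite_mem, Finset.univ_inter] at h
    simp [hcard] at h
    omega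
  have hCsum : ∑ x ∈ C, sgn x = -8 := by
    have hd : ∀ d : P, d * d = 1 → ∑ x, sgn x * chi x d = S := by
      intro d hd
      have h := Equiv.sum_comp (Equiv.mulRight d) (fun x : P => sgn x)
      simp only [Equiv.coe_mulRight] at h
      rw [hS, ← h]
      refine Finset.sum_congr rfl fun x _ => ?_
      rw [sgn_mul z hz hz1 hzc hsq hcom, show sgn d = 1 from if_pos hd, mul_one]
    have h := Finset.sum_congr rfl fun x (_ : x ∈ (Finset.univ : Finset P)) =>
      congrArg (sgn x * ·) (hpt x)
    simp only [mul_add, mul_one, mul_ite, mul_zero] at h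
    rw [Finset.sum_add_distrib, Finset.sum_add_distrib, Finset.sum_add_distrib, hd u hu, hd w hw,
      hd _ huw2, Finset.sum_ite_mem, Finset.univ_inter, ← Finset.sum_mul, ← hS, hS8] at h
    linarith
  -- at least six elements of `C` square to one
  have hsub : ({1, z, u, z * u, w, z * w} : Finset P) ⊆ C.filter (fun x => x * x = 1) := by
    have hzm : ∀ a, a * a = 1 → (z * a) * (z * a) = 1 := fun a ha => by
      rw [mul_assoc, ← mul_assoc a z, hzc a, mul_assoc z a, ha, mul_one, hz]
    intro x hx
    simp only [Finset.mem_insert, Finset.mem_singleton] at hx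
    simp only [hC, Finset.mem_filter, Finset.mem_univ, true_and]
    rcases hx with rfl | rfl | rfl | rfl | rfl | rfl
    · simp
    · exact ⟨⟨(hzc u).symm, (hzc w).symm⟩, hz⟩
    · exact ⟨⟨rfl, huw⟩, hu⟩
    · exact ⟨⟨by rw [mul_assoc, ← mul_assoc u z, hzc u, mul_assoc],
        by rw [mul_assoc, huw, ← mul_assoc w z, hzc w, mul_assoc]⟩, hzm u hu⟩
    · exact ⟨⟨huw.symm, rfl⟩, hw⟩
    · exact ⟨⟨by rw [mul_assoc, ← huw, ← mul_assoc u z, hzc u, mul_assoc],
        by rw [mul_assoc, ← mul_assoc w z, hzc w, mul_assoc]⟩, hzm w hw⟩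
  have hcancel : ∀ a b : P, z * a = b → a = z * b := fun a b h => by rw [← h, ← mul_assoc, hz, one_mul]
  have hsix : ({1, z, u, z * u, w, z * w} : Finset P).card = 6 := by
    have a1 : (1 : P) ≠ z * u := fun h => hu'.2 (by simpa using hcancel _ _ h.symm)
    have a2 : (1 : P) ≠ z * w := fun h => hw'.2 (by simpa using hcancel _ _ h.symm)
    have a3 : z ≠ z * u := fun h => hu'.1 (mul_eq_left.1 h.symm)
    have a4 : z ≠ z * w := fun h => hw'.1 (mul_eq_left.1 h.symm)
    have a5 : u ≠ z * u := fun h => hz1 (mul_eq_right.1 h.symm)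
    have a6 : w ≠ z * w := fun h => hz1 (mul_eq_right.1 h.symm)
    have a7 : u ≠ z * w := fun h => hcon.2 (hcancel _ _ h.symm)
    have a8 : z * u ≠ z * w := fun h => hcon.1 (mul_left_cancel h).symm
    simp [Finset.card_insert_of_notMem, Ne.symm hz1, Ne.symm hu'.1, Ne.symm hu'.2, Ne.symm hw'.1,
      Ne.symm hw'.2, a1, a2, a3, a4, a5, a6, a7, a8, Ne.symm hcon.1, Ne.symm hcon.2]
  have h6 : 6 ≤ (C.filter (fun x => x * x = 1)).card := hsix ▸ Finset.card_le_card hsub
  have hval : ∀ x : P, sgn x = 2 * (if x * x = 1 then 1 else 0) - 1 := fun x => by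
    unfold sgn; split <;> norm_num
  rw [Finset.sum_congr rfl fun x _ => hval x, Finset.sum_sub_distrib, ← Finset.mul_sum,
    Finset.sum_boole, Finset.sum_const, nsmul_eq_mul, mul_one, hCcard] at hCsum
  omega

end CfsgLib.HJOrder
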