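import Mathlib

/-! Small counts in the alternating group of degree five. -/

set_option Elab.async false

namespace CfsgLib.HJOrder

open Equiv

theorem a5_orders : ∀ c : alternatingGroup (Fin 5), c ^ 2 = 1 ∨ c ^ 3 = 1 ∨ c ^ 5 = 1 := by
  decide +kernel

theorem a5_pow_fifteen (c : alternatingGroup (Fin 5)) : c ^ 15 = 1 ↔ c ^ 3 = 1 ∨ c ^ 5 = 1 := by
  refine ⟨fun h => ?_, ?_⟩
  · rcases a5_orders c with h2 | h3 | h5
    · rw [show (15 : ℕ) = 2 * 7 + 1 from rfl, pow_succ, pow_mul, h2, one_pow, one_mul] at h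
      exact Or.inl (by rw [h, one_pow])
    · exact Or.inl h3
    · exact Or.inr h5
  · rintro (h | h)
    · rw [show (15 : ℕ) = 3 * 5 from rfl, pow_mul, h, one_pow]
    · rw [show (15 : ℕ) = 5 * 3 from rfl, pow_mul, h, one_pow]

theorem a5_pairs_small :
    ((((Finset.univ : Finset (alternatingGroup (Fin 5))).filter fun p => p * p = 1 ∧ p ≠ 1) ×ˢ
      ((Finset.univ : Finset (alternatingGroup (Fin 5))).filter fun p => p * p = 1)).filter
      fun p => (p.1 * p.2) ^ 3 = 1 ∨ (p.1 * p.2) ^ 5 = 1).card = 195 := by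
  decide +kernel

theorem a5_pairs : (Finset.univ.filter (fun p : alternatingGroup (Fin 5) × alternatingGroup (Fin 5) =>
    (p.1 * p.1 = 1 ∧ p.1 ≠ 1) ∧ p.2 * p.2 = 1 ∧ (p.1 * p.2) ^ 15 = 1)).card = 195 := by
  rw [← a5_pairs_small]
  refine congrArg Finset.card (Finset.ext fun p => ?_)
  simp only [Finset.mem_filter, Finset.mem_product, Finset.mem_univ, true_and, a5_pow_fifteen, and_assoc]

theorem a5_involutions :
    (Finset.univ.filter (fun p : alternatingGroup (Fin 5) => p * p = 1 ∧ p ≠ 1)).card = 15 := by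
  decide +kernel

theorem a5_centralizer : ∀ u : alternatingGroup (Fin 5), u * u = 1 → u ≠ 1 →
    (Finset.univ.filter (fun p : alternatingGroup (Fin 5) => p * u = u * p ∧ p * p = 1 ∧ p ≠ 1)).card = 3 := by
  decide +kernel

theorem a5_exponent (c : alternatingGroup (Fin 5)) : c ^ 30 = 1 := by
  rcases a5_orders c with h | h | h
  · rw [show (30 : ℕ) = 2 * 15 from rfl, pow_mul, h, one_pow]
  · rw [show (30 : ℕ) = 3 * 10 from rfl, pow_mul, h, one_pow]
  · rw [show (30 : ℕ) = 5 * 6 from rfl, pow_mul, h, one_pow]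

end CfsgLib.HJOrder
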