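import Mathlib
import Cfsg.Agent.Lib.HJOrder.Tables
import Cfsg.Agent.Lib.HJOrder.Extra
import Cfsg.Agent.Lib.Components.FStar
import Cfsg.Agent.Lib.PGroup.Extraspecial
import Cfsg.Agent.S0213

/-! The order of a simple group with the involution pattern of the Hall–Janko group. -/

namespace CfsgLib.HJOrder

open Subgroup
open scoped commutatorElement Pointwise

variable {G : Type*} [Group G]

theorem conj_comm (g a b : G) : Commute (g * a * g⁻¹) (g * b * g⁻¹) ↔ Commute a b := by
  constructor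
  · intro h
    have e : g * a * g⁻¹ * (g * b * g⁻¹) = g * b * g⁻¹ * (g * a * g⁻¹) := h
    show a * b = b * a
    calc a * b = g⁻¹ * (g * a * g⁻¹ * (g * b * g⁻¹)) * g := by group
      _ = g⁻¹ * (g * b * g⁻¹ * (g * a * g⁻¹)) * g := by rw [e]
      _ = b * a := by group
  · intro h
    show g * a * g⁻¹ * (g * b * g⁻¹) = g * b * g⁻¹ * (g * a * g⁻¹)
    calc g * a * g⁻¹ * (g * b * g⁻¹) = g * (a * b) * g⁻¹ := by group
      _ = g * (b * a) * g⁻¹ := by rw [h.eq]
      _ = _ := by group

/-- The number of conjugates times the centralizer order. -/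
theorem card_class_mul [Finite G] (a : G) :
    Nat.card {x : G // IsConj a x} * Nat.card (centralizer ({a} : Set G)) = Nat.card G := by
  have e : (G ⧸ centralizer ({a} : Set G)) ≃ {x : G // IsConj a x} := by
    refine Equiv.ofBijective (Quotient.lift (fun g => ⟨g * a * g⁻¹, isConj_iff.2 ⟨g, rfl⟩⟩)
      (fun g h hgh => Subtype.ext ?_)) ⟨?_, ?_⟩
    · have hm := QuotientGroup.leftRel_apply.1 hgh
      rw [mem_centralizer_singleton_iff] at hm
      show g * a * g⁻¹ = h * a * h⁻¹
      calc g * a * g⁻¹ = g * (a * (g⁻¹ * h)) * h⁻¹ := by group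
        _ = g * ((g⁻¹ * h) * a) * h⁻¹ := by rw [hm]
        _ = h * a * h⁻¹ := by group
    · intro p q hpq
      induction p using QuotientGroup.induction_on with
      | H g =>
      induction q using QuotientGroup.induction_on with
      | H h =>
      have h1 : g * a * g⁻¹ = h * a * h⁻¹ := congrArg Subtype.val hpq
      refine QuotientGroup.eq.2 (mem_centralizer_singleton_iff.2 ?_)
      calc g⁻¹ * h * a = g⁻¹ * (h * a * h⁻¹) * h := by group
        _ = g⁻¹ * (g * a * g⁻¹) * h := by rw [h1]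
        _ = a * (g⁻¹ * h) := by group
    · rintro ⟨x, hx⟩
      obtain ⟨g, rfl⟩ := isConj_iff.1 hx
      exact ⟨(g : G ⧸ centralizer ({a} : Set G)), rfl⟩
  rw [← Nat.card_congr e, ← Subgroup.index_eq_card, mul_comm, Subgroup.card_mul_index]

/-- Pairs of commuting conjugates, counted from one side. -/
theorem card_commuting_pairs [Finite G] (a b : G) :
    Nat.card {p : {x : G // IsConj a x} × {y : G // IsConj b y} // Commute p.1.1 p.2.1} =
      Nat.card {x : G // IsConj a x} * Nat.card {y : G // IsConj b y ∧ Commute a y} := by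
  classical
  rw [← Nat.card_prod]
  have hg : ∀ x : {x : G // IsConj a x}, ∃ g, g * a * g⁻¹ = x.1 := fun x => isConj_iff.1 x.2
  refine Nat.card_congr
    { toFun := fun p => (p.1.1, ⟨(hg p.1.1).choose⁻¹ * p.1.2.1 * (hg p.1.1).choose,
        p.1.2.2.trans (isConj_iff.2 ⟨(hg p.1.1).choose⁻¹, by rw [inv_inv]⟩), ?_⟩)
      invFun := fun q => ⟨(q.1, ⟨(hg q.1).choose * q.2.1 * (hg q.1).choose⁻¹,
        q.2.2.1.trans (isConj_iff.2 ⟨_, rfl⟩)⟩), ?_⟩
      left_inv := fun p => ?_
      right_inv := fun q => ?_ }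
  · have h := p.2
    rw [← (hg p.1.1).choose_spec] at h
    refine (conj_comm (hg p.1.1).choose _ _).1 ?_
    convert h using 1
    group
  · have h := (conj_comm (hg q.1).choose _ _).2 q.2.2.2
    rwa [(hg q.1).choose_spec] at h
  · ext
    · rfl
    · simp [mul_assoc]
  · ext
    · rfl
    · simp [mul_assoc]

theorem card_sup_mul [Finite G] (A B : Subgroup G) (hn : A ≤ normalizer (B : Set G)) (hd : A ⊓ B = ⊥) :
    Nat.card ↥(A ⊔ B) = Nat.card A * Nat.card B := by
  rw [← Nat.card_prod]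
  refine (Nat.card_congr (Equiv.ofBijective
    (fun p : A × B => (⟨p.1 * p.2, mul_mem (mem_sup_left p.1.2) (mem_sup_right p.2.2)⟩ : ↥(A ⊔ B))) ⟨?_, ?_⟩)).symm
  · rintro ⟨a, b⟩ ⟨a', b'⟩ h
    have h1 : (a : G) * b = a' * b' := congrArg Subtype.val h
    have h2 : (a' : G)⁻¹ * a = b' * (b : G)⁻¹ := by
      calc (a' : G)⁻¹ * a = (a' : G)⁻¹ * ((a : G) * b) * (b : G)⁻¹ := by group
        _ = (a' : G)⁻¹ * ((a' : G) * b') * (b : G)⁻¹ := by rw [h1]
        _ = b' * (b : G)⁻¹ := by group
    have h3 : (a' : G)⁻¹ * a ∈ A ⊓ B :=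
      mem_inf.2 ⟨mul_mem (inv_mem a'.2) a.2, h2 ▸ mul_mem b'.2 (inv_mem b.2)⟩
    rw [hd, mem_bot] at h3
    have ha : (a : G) = a' := (inv_mul_eq_one.1 h3).symm
    rw [h3] at h2
    have hb : (b : G) = b' := (mul_inv_eq_one.1 h2.symm).symm
    ext <;> assumption
  · rintro ⟨x, hx⟩
    have : x ∈ ((A : Set G) * (B : Set G)) := by
      rw [← Subgroup.coe_mul_of_left_le_normalizer_right A B hn]; exact hx
    obtain ⟨a, ha, b, hb, rfl⟩ := this
    exact ⟨(⟨a, ha⟩, ⟨b, hb⟩), rfl⟩

set_option maxHeartbeats 1600000 in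
theorem main [Finite G]
    (z t : G) (hz : orderOf z = 2) (ht : orderOf t = 2)
    (hzt : ¬ IsConj z t) (hcl : ∀ x : G, orderOf x = 2 → IsConj x z ∨ IsConj x t)
    (hex : Cfsg.IsExtraspecial 2 ↥(Cfsg.generalizedFittingSubgroup ↥(centralizer ({z} : Set G))))
    (Q : Subgroup G)
    (hQdef : Q = (Cfsg.pCore 2 ↥(centralizer ({z} : Set G))).map (centralizer ({z} : Set G)).subtype)
    (hQ : Nat.card ↥Q = 32)
    (K : Subgroup G) (hK : Nonempty (↥K ≃* alternatingGroup (Fin 5)))
    (hKC : K ⊔ Q = centralizer ({z} : Set G)) (hKQ : K ⊓ Q = ⊥)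
    (hQz : ∀ x ∈ Q, orderOf x = 2 → IsConj x z)
    (hCz : ∀ x ∈ centralizer ({z} : Set G), orderOf x = 2 → x ∉ Q → IsConj x t)
    (V B : Subgroup G) (hVB : V ≤ centralizer ({t} : Set G) ∧ B ≤ centralizer ({t} : Set G) ∧
      (∀ a ∈ V, ∀ b ∈ B, a * b = b * a) ∧ V ⊓ B = ⊥ ∧ V ⊔ B = centralizer ({t} : Set G))
    (hV : Nat.card ↥V = 4) (hV2 : ∀ v ∈ V, v ^ 2 = 1) (htV : t ∈ V) (hB : Nonempty (↥B ≃* alternatingGroup (Fin 5)))
    (hBz : ∀ x ∈ B, orderOf x = 2 → IsConj x z)
    (hCt : ∀ x ∈ centralizer ({t} : Set G), orderOf x = 2 → x ∉ B → IsConj x t) :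
    Nat.card G = 604800 := by
  classical
  obtain ⟨-, hBt, hcomVB, hdVB, hsupVB⟩ := hVB
  obtain ⟨eB⟩ := hB
  obtain ⟨eK⟩ := hK
  have : Fact (Nat.Prime 2) := ⟨Nat.prime_two⟩
  have : Fact (Nat.Prime 5) := ⟨by norm_num⟩
  set H := centralizer ({z} : Set G) with hH
  have hmemH : ∀ x, x ∈ H ↔ x * z = z * x := fun x => by rw [hH, mem_centralizer_singleton_iff]
  have hmemT : ∀ x, x ∈ centralizer ({t} : Set G) ↔ x * t = t * x := fun x => mem_centralizer_singleton_iff
  have ord2 : ∀ x : G, x * x = 1 → x ≠ 1 → orderOf x = 2 := fun x hx hne =>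
    orderOf_eq_prime (by rw [sq]; exact hx) hne
  have sq2 : ∀ x : G, orderOf x = 2 → x * x = 1 ∧ x ≠ 1 := fun x hx =>
    ⟨by rw [← sq]; exact hx ▸ pow_orderOf_eq_one x, fun e => by simp [e] at hx⟩
  have hconjord : ∀ {a x : G}, IsConj a x → orderOf x = orderOf a := fun h => by
    obtain ⟨g, rfl⟩ := isConj_iff.1 h
    exact (MulAut.conj g).orderOf_eq _
  obtain ⟨hz2, hz1⟩ := sq2 z hz
  obtain ⟨ht2, ht1⟩ := sq2 t ht
  have hcross : ∀ {x : G}, IsConj z x → IsConj t x → False := fun h1 h2 => hzt (h1.trans h2.symm)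
  -- structure of `Q`
  have hQH : Q ≤ H := by rw [hQdef]; exact map_subtype_le _
  have hFS : Cfsg.generalizedFittingSubgroup ↥H = Cfsg.pCore 2 ↥H :=
    le_antisymm (CfsgLib.PCore.le_pCore CfsgLib.Components.generalizedFitting_normal hex.1.1)
      ((CfsgLib.Fitting.pCore_le_fitting Nat.prime_two).trans CfsgLib.Components.fitting_le_generalizedFitting)
  have hexP : Cfsg.IsExtraspecial 2 ↥(Cfsg.pCore 2 ↥H) := hFS ▸ hex
  have hself := CfsgLib.Components.centralizer_pCore_le_of_generalizedFitting_eq hFS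
  have hmemQ : ∀ x, x ∈ Q ↔ ∃ h : x ∈ H, (⟨x, h⟩ : H) ∈ Cfsg.pCore 2 ↥H := fun x => by
    rw [hQdef]
    exact ⟨fun ⟨y, hy, e⟩ => e ▸ ⟨y.2, hy⟩, fun ⟨h, hx⟩ => ⟨⟨x, h⟩, hx, rfl⟩⟩
  have hzH : z ∈ H := (hmemH z).2 rfl
  have hzP : (⟨z, hzH⟩ : H) ∈ Cfsg.pCore 2 ↥H := hself (by
    rw [mem_centralizer_iff]
    intro y _
    exact Subtype.ext ((hmemH y).1 y.2))
  have hzQ : z ∈ Q := (hmemQ z).2 ⟨hzH, hzP⟩
  have hselfQ : ∀ g ∈ H, (∀ y ∈ Q, y * g = g * y) → g ∈ Q := fun g hg h => (hmemQ g).2 ⟨hg, hself (by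
    rw [mem_centralizer_iff]
    intro y hy
    exact Subtype.ext (h y ((hmemQ y).2 ⟨y.2, hy⟩)))⟩
  let z0 : ↥(Cfsg.pCore 2 ↥H) := ⟨⟨z, hzH⟩, hzP⟩
  have hz0 : z0 ∈ center ↥(Cfsg.pCore 2 ↥H) := mem_center_iff.2 fun y =>
    Subtype.ext (Subtype.ext ((hmemH y.1).1 y.1.2))
  have hz01 : z0 ≠ 1 := fun e => hz1 (congrArg (fun w : ↥(Cfsg.pCore 2 ↥H) => ((w : H) : G)) e)
  have hcenP : ∀ w ∈ center ↥(Cfsg.pCore 2 ↥H), ((w : H) : G) = 1 ∨ ((w : H) : G) = z := by
    intro w hw
    rw [← CfsgLib.PGroup.extraspecial_zpowers_eq_center hexP hz0 hz01] at hw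
    obtain ⟨i, rfl⟩ := hw
    show ((((z0 ^ i : ↥(Cfsg.pCore 2 ↥H)) : H) : G)) = 1 ∨ _ = z
    push_cast
    have h2 : z ^ (2 : ℤ) = 1 := by rw [zpow_ofNat, sq]; exact hz2
    rcases Int.even_or_odd i with ⟨j, hj⟩ | ⟨j, hj⟩
    · left; show z ^ i = 1; rw [hj, ← two_mul, zpow_mul, h2, one_zpow]
    · right; show z ^ i = z; rw [hj, zpow_add, zpow_mul, h2, one_zpow, one_mul, zpow_one]
  let _ : Fintype ↥Q := Fintype.ofFinite _
  have hcardQ : Fintype.card ↥Q = 32 := by rw [← Nat.card_eq_fintype_card, hQ]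
  let zq : ↥Q := ⟨z, hzQ⟩
  have lift : ∀ x : ↥Q, ∃ y : ↥(Cfsg.pCore 2 ↥H), ((y : H) : G) = x := fun x =>
    ⟨⟨⟨x, hQH x.2⟩, ((hmemQ x).1 x.2).2⟩, rfl⟩
  have hzc : ∀ x : ↥Q, x * zq = zq * x := fun x => Subtype.ext ((hmemH x).1 (hQH x.2))
  have hqz2 : zq * zq = 1 := Subtype.ext hz2
  have hqz1 : zq ≠ 1 := fun e => hz1 (congrArg Subtype.val e)
  have hsq : ∀ x : ↥Q, x * x = 1 ∨ x * x = zq := by
    intro x
    obtain ⟨y, hy⟩ := lift x
    have := hcenP _ (CfsgLib.PGroup.extraspecial_pow_mem_center hexP y)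
    simp only [hy, sq, Subgroup.coe_mul] at this
    exact this.imp (fun e => Subtype.ext e) (fun e => Subtype.ext e)
  have hcom : ∀ x d : ↥Q, d * x = x * d ∨ d * x = zq * (x * d) := by
    intro x d
    obtain ⟨a, ha⟩ := lift d
    obtain ⟨b, hb⟩ := lift x
    have h := hcenP _ (CfsgLib.PGroup.extraspecial_comm_mem_center hexP a b)
    simp only [commutatorElement_def, Subgroup.coe_mul, Subgroup.coe_inv, ha, hb] at h
    rcases h with h | h
    · left
      refine Subtype.ext ?_
      show (d : G) * x = x * d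
      calc (d : G) * x = ((d : G) * x * (d : G)⁻¹ * (x : G)⁻¹) * (x * d) := by group
        _ = x * d := by rw [h, one_mul]
    · right
      refine Subtype.ext ?_
      show (d : G) * x = z * (x * d)
      calc (d : G) * x = ((d : G) * x * (d : G)⁻¹ * (x : G)⁻¹) * (x * d) := by group
        _ = z * (x * d) := by rw [h]
  have hcen : ∀ d : ↥Q, (∀ x, x * d = d * x) → d = 1 ∨ d = zq := by
    intro d hd
    obtain ⟨a, ha⟩ := lift d
    have hc : a ∈ center ↥(Cfsg.pCore 2 ↥H) := mem_center_iff.2 fun b => Subtype.ext (Subtype.ext (by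
      have := congrArg Subtype.val (hd ⟨b.1.1, (hmemQ _).2 ⟨b.1.2, b.2⟩⟩)
      simpa [ha] using this))
    have := hcenP a hc
    rw [ha] at this
    exact this.imp (fun e => Subtype.ext e) (fun e => Subtype.ext e)
  have hHn : H ≤ normalizer (Q : Set G) := by
    intro h hh
    rw [mem_normalizer_iff]
    have key : ∀ h ∈ H, ∀ y ∈ Q, h * y * h⁻¹ ∈ Q := by
      intro h hh y hy
      obtain ⟨hyH, hyP⟩ := (hmemQ y).1 hy
      exact (hmemQ _).2 ⟨mul_mem (mul_mem hh hyH) (inv_mem hh),
        (inferInstance : (Cfsg.pCore 2 ↥H).Normal).conj_mem _ hyP ⟨h, hh⟩⟩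
    exact fun y => ⟨key h hh y, fun hy => by simpa [mul_assoc] using key h⁻¹ (inv_mem hh) _ hy⟩
  -- an element of order five
  have hKH : K ≤ H := by rw [← hKC]; exact le_sup_left
  have hK60 : Nat.card K = 60 := by
    rw [Nat.card_congr eK.toEquiv, nat_card_alternatingGroup]; simp [Nat.factorial]
  obtain ⟨g, hg⟩ := exists_prime_orderOf_dvd_card' (G := K) 5 (by rw [hK60]; norm_num)
  have hgH : (g : G) ∈ H := hKH g.2
  let σ : Equiv.Perm ↥Q :=
    { toFun := fun x => ⟨g * x * (g : G)⁻¹, (mem_normalizer_iff.1 (hHn hgH) _).1 x.2⟩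
      invFun := fun x => ⟨(g : G)⁻¹ * x * g,
        (mem_normalizer_iff.1 (hHn hgH) _).2 (by simp [mul_assoc, x.2])⟩
      left_inv := fun x => by ext; simp [mul_assoc]
      right_inv := fun x => by ext; simp [mul_assoc] }
  have hσpow : ∀ (n : ℕ) (x : ↥Q), (((σ ^ n) x : ↥Q) : G) = (g : G) ^ n * x * ((g : G) ^ n)⁻¹ := by
    intro n
    induction n with
    | zero => simp
    | succ n ih =>
      intro x
      rw [pow_succ', Equiv.Perm.mul_apply]
      show (g : G) * ((σ ^ n) x : ↥Q) * (g : G)⁻¹ = _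
      rw [ih, pow_succ']; group
  have hg5 : (g : G) ^ 5 = 1 := by
    have : g ^ 5 = 1 := hg ▸ pow_orderOf_eq_one g
    simpa using congrArg Subtype.val this
  have hσ5 : σ ^ 5 = 1 := by ext x; rw [hσpow, hg5]; simp
  let F : Subgroup G := Q ⊓ centralizer ({(g : G)} : Set G)
  have hmemF : ∀ x, x ∈ F ↔ x ∈ Q ∧ x * g = g * x := fun x => by
    rw [mem_inf, mem_centralizer_singleton_iff]
  -- orbits of length five
  have hfive : ∀ P : ↥Q → Prop, (∀ x, P x ↔ P (σ x)) → (∀ x, P x → (x : G) ∉ F) →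
      5 ∣ Nat.card {x : ↥Q // P x} := by
    intro P hP hPF
    by_contra hnd
    let τ : Equiv.Perm {x : ↥Q // P x} := σ.subtypePerm (fun x => (hP x).symm)
    rw [Nat.card_eq_fintype_card] at hnd
    obtain ⟨x, hx⟩ := Equiv.Perm.exists_fixed_point_of_prime (p := 5) (n := 1) hnd (σ := τ) (by
      ext x
      simp only [pow_one, τ, Equiv.Perm.subtypePerm_pow, Equiv.Perm.subtypePerm_apply, hσ5]
      rfl)
    refine hPF x.1 x.2 ((hmemF _).2 ⟨x.1.2, ?_⟩)
    have h' : (g : G) * x.1 * (g : G)⁻¹ = x.1 := congrArg (fun y => ((y.1 : ↥Q) : G)) hx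
    exact (mul_inv_eq_iff_eq_mul.1 h').symm
  have hFQ : F ≤ Q := inf_le_left
  have hzF : z ∈ F := (hmemF z).2 ⟨hzQ, ((hmemH g).1 hgH).symm⟩
  have hσF : ∀ x : ↥Q, (x : G) ∈ F ↔ ((σ x : ↥Q) : G) ∈ F := by
    intro x
    show _ ↔ (g : G) * x * (g : G)⁻¹ ∈ F
    rw [hmemF, hmemF]
    constructor
    · intro hx
      have e : (g : G) * x * (g : G)⁻¹ = x := by rw [← hx.2]; group
      rw [e]; exact hx
    · intro hx
      refine ⟨x.2, ?_⟩
      calc (x : G) * g = (g : G)⁻¹ * ((g : G) * x * (g : G)⁻¹ * g) * g := by group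
        _ = (g : G)⁻¹ * ((g : G) * ((g : G) * x * (g : G)⁻¹)) * g := by rw [hx.2]
        _ = g * x := by group
  have hF : Nat.card F = 2 := by
    have hQp : IsPGroup 2 Q := IsPGroup.of_card (n := 5) (by rw [hQ]; norm_num)
    obtain ⟨k, hk⟩ := IsPGroup.iff_card.1 (hQp.to_le hFQ)
    have hk0 : k ≠ 0 := by
      rintro rfl
      rw [pow_zero] at hk
      exact hz1 (by simpa [Subgroup.eq_bot_of_card_eq _ hk] using hzF)
    have hle : Nat.card F ≤ 32 := hQ ▸ Subgroup.card_le_of_le hFQ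
    have hk5 : k ≤ 5 := by
      by_contra h
      have : 2 ^ 6 ≤ 2 ^ k := Nat.pow_le_pow_right (by norm_num) (by omega)
      omega
    have hd := hfive (fun x => (x : G) ∉ F) (fun x => not_congr (hσF x)) (fun x hx => hx)
    rw [Nat.card_eq_fintype_card, Fintype.card_subtype_compl, hcardQ] at hd
    have e : Fintype.card {x : ↥Q // (x : G) ∈ F} = 2 ^ k := by
      rw [← hk, ← Nat.card_eq_fintype_card]
      exact Nat.card_congr { toFun := fun x => ⟨x.1.1, x.2⟩, invFun := fun x => ⟨⟨x.1, hFQ x.2⟩, x.2⟩ }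
    rw [e] at hd
    have h5 : k ≠ 5 := by
      rintro rfl
      have hFeq : F = Q := Subgroup.eq_of_le_of_card_ge hFQ (by rw [hk, hQ]; norm_num)
      have hgQ : (g : G) ∈ Q := hselfQ g hgH fun y hy => ((hmemF y).1 (hFeq ▸ hy)).2
      have hgbot : (g : G) ∈ K ⊓ Q := mem_inf.2 ⟨g.2, hgQ⟩
      rw [hKQ, mem_bot] at hgbot
      have : g = 1 := Subtype.ext hgbot
      rw [this, orderOf_one] at hg
      omega
    interval_cases k <;> first | omega | (rw [hk]; norm_num)
  -- twelve elements of `Q` square to one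
  have hFz : ∀ x ∈ F, x = 1 ∨ x = z := by
    intro x hx
    have hle : zpowers z ≤ F := zpowers_le.2 hzF
    have heq : zpowers z = F := Subgroup.eq_of_le_of_card_ge hle (by rw [hF, Nat.card_zpowers, hz])
    rw [← heq] at hx
    obtain ⟨i, rfl⟩ := hx
    have h2 : z ^ (2 : ℤ) = 1 := by rw [zpow_ofNat, sq]; exact hz2
    rcases Int.even_or_odd i with ⟨j, hj⟩ | ⟨j, hj⟩
    · left; show z ^ i = 1; rw [hj, ← two_mul, zpow_mul, h2, one_zpow]
    · right; show z ^ i = z; rw [hj, zpow_add, zpow_mul, h2, one_zpow, one_mul, zpow_one]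
  have hn12 : (Finset.univ.filter (fun x : ↥Q => x * x = 1)).card = 12 := by
    convert (card_sq_one zq hqz2 hqz1 hzc hsq hcom hcen hcardQ).resolve_right fun h20 => ?_
    have hd := hfive (fun x => x * x = 1 ∧ (x : G) ∉ F) (fun x => by
      refine and_congr ⟨fun h => Subtype.ext ?_, fun h => Subtype.ext ?_⟩ (not_congr (hσF x))
      · show (g : G) * x * (g : G)⁻¹ * ((g : G) * x * (g : G)⁻¹) = 1
        calc _ = (g : G) * ((x : G) * x) * (g : G)⁻¹ := by group
          _ = 1 := by rw [show (x : G) * x = 1 from congrArg Subtype.val h]; group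
      · have h' : (g : G) * x * (g : G)⁻¹ * ((g : G) * x * (g : G)⁻¹) = 1 := congrArg Subtype.val h
        show (x : G) * x = 1
        calc (x : G) * x = (g : G)⁻¹ * ((g : G) * x * (g : G)⁻¹ * ((g : G) * x * (g : G)⁻¹)) * g := by group
          _ = 1 := by rw [h']; group) (fun x hx => hx.2)
    rw [Nat.card_eq_fintype_card, Fintype.card_subtype] at hd
    have e : (Finset.univ.filter (fun x : ↥Q => x * x = 1 ∧ (x : G) ∉ F)) =
        (Finset.univ.filter (fun x : ↥Q => x * x = 1)) \ {1, zq} := by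
      ext x
      simp only [Finset.mem_filter, Finset.mem_univ, true_and, Finset.mem_sdiff, Finset.mem_insert,
        Finset.mem_singleton]
      refine and_congr_right fun _ => not_congr ⟨fun h => ?_, ?_⟩
      · exact (hFz _ h).imp (fun e => Subtype.ext e) (fun e => Subtype.ext e)
      · rintro (rfl | rfl)
        · exact one_mem F
        · exact hzF
    rw [e, Finset.card_sdiff_of_subset (by
      intro x hx
      simp only [Finset.mem_insert, Finset.mem_singleton] at hx
      rcases hx with rfl | rfl <;> simp [hqz2]), Finset.card_pair (Ne.symm hqz1),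
      show (Finset.univ.filter (fun x : ↥Q => x * x = 1)).card = 20 by convert h20] at hd
    omega
  -- classes inside the centralizers
  have hzin : ∀ x ∈ H, IsConj z x → x ∈ Q ∧ orderOf x = 2 := by
    intro x hx hc
    have ho : orderOf x = 2 := (hconjord hc).trans hz
    refine ⟨?_, ho⟩
    by_contra hxQ
    exact hcross hc (hCz x hx ho hxQ).symm
  have hzinT : ∀ x ∈ centralizer ({t} : Set G), IsConj z x → x ∈ B := by
    intro x hx hc
    by_contra hxB
    exact hcross hc (hCt x hx ((hconjord hc).trans hz) hxB).symm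
  have hVn : V ≤ normalizer (B : Set G) := fun a ha => by
    rw [mem_normalizer_iff]
    intro b
    constructor
    · intro hb; rw [hcomVB a ha b hb, mul_inv_cancel_right]; exact hb
    · intro hb
      have h1 := hcomVB a ha _ hb
      have e : b = a * b * a⁻¹ := by
        calc b = a⁻¹ * (a * b * a⁻¹ * a) := by group
          _ = a⁻¹ * (a * (a * b * a⁻¹)) := by rw [h1]
          _ = a * b * a⁻¹ := by group
      rwa [← e] at hb
  have hctT : Nat.card (centralizer ({t} : Set G)) = 240 := by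
    rw [← hsupVB, card_sup_mul V B hVn hdVB, hV, Nat.card_congr eB.toEquiv, nat_card_alternatingGroup]
    simp [Nat.factorial]
  have hczH : Nat.card H = 1920 := by
    rw [← hKC, card_sup_mul K Q (hKH.trans hHn) hKQ, hK60, hQ]
  -- inside `C(t)`
  have hBinv : Nat.card {x : G // IsConj z x ∧ Commute t x} = 15 := by
    rw [← a5_involutions, ← Nat.card_eq_finsetCard]
    have hmem : ∀ x, IsConj z x → Commute t x → x ∈ B := fun x h1 h2 => hzinT x ((hmemT x).2 h2.eq.symm) h1
    refine Nat.card_congr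
      { toFun := fun x => ⟨eB ⟨x.1, hmem _ x.2.1 x.2.2⟩, ?_⟩
        invFun := fun p => ⟨(eB.symm p.1 : B), ?_, ?_⟩
        left_inv := fun x => by ext; simp
        right_inv := fun p => by ext; simp }
    · obtain ⟨a, b⟩ := sq2 x.1 ((hconjord x.2.1).trans hz)
      simp only [Finset.mem_filter, Finset.mem_univ, true_and]
      refine ⟨?_, fun e => b ?_⟩
      · rw [← map_mul, show (⟨x.1, hmem _ x.2.1 x.2.2⟩ : B) * ⟨x.1, _⟩ = 1 from Subtype.ext a, map_one]
      · simpa using congrArg Subtype.val (eB.map_eq_one_iff.1 e)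
    · have hp := (Finset.mem_filter.1 p.2).2
      refine (hBz _ (eB.symm p.1).2 (ord2 _ ?_ ?_)).symm
      · rw [← Subgroup.coe_mul, ← map_mul, hp.1, map_one, Subgroup.coe_one]
      · intro e
        exact hp.2 (eB.symm.map_eq_one_iff.1 (Subtype.ext e))
    · exact ((hmemT _).1 (hBt (eB.symm p.1).2)).symm
  have hN : Nat.card {x : G // IsConj t x ∧ Commute z x} = 120 := by
    have h1 := card_commuting_pairs z t
    have h2 := card_commuting_pairs t z
    have h3 : Nat.card {p : {x : G // IsConj z x} × {y : G // IsConj t y} // Commute p.1.1 p.2.1} =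
        Nat.card {p : {x : G // IsConj t x} × {y : G // IsConj z y} // Commute p.1.1 p.2.1} :=
      Nat.card_congr ((Equiv.prodComm _ _).subtypeEquiv fun p => ⟨Commute.symm, Commute.symm⟩)
    rw [h1, h2, hBinv] at h3
    have e1 := card_class_mul z
    have e2 := card_class_mul t
    rw [hctT] at e2
    rw [← hH, hczH] at e1
    have hpos : 0 < Nat.card {x : G // IsConj z x} :=
      Nat.card_pos_iff.2 ⟨⟨⟨z, IsConj.refl z⟩⟩, inferInstance⟩
    nlinarith
  have hfour : ∀ v : G, IsConj t v → Commute z v →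
      Nat.card {x : G // (IsConj z x ∧ Commute z x) ∧ Commute v x} = 3 := by
    intro v hv hzv
    obtain ⟨c, rfl⟩ := isConj_iff.1 hv
    set z' := c⁻¹ * z * c with hz'
    have hcz' : c * z' * c⁻¹ = z := by rw [hz']; group
    have hz'c : IsConj z z' := isConj_iff.2 ⟨c⁻¹, by rw [hz', inv_inv]⟩
    have htz' : Commute t z' := by
      refine (conj_comm c _ _).1 ?_
      rw [hcz']; exact hzv.symm
    have hz'B : z' ∈ B := hzinT _ ((hmemT _).2 htz'.eq.symm) hz'c
    obtain ⟨a, b⟩ := sq2 z' ((hconjord hz'c).trans hz)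
    set u := eB ⟨z', hz'B⟩ with hu
    have h3 := a5_centralizer u (by
        rw [hu, ← map_mul, show (⟨z', hz'B⟩ : B) * ⟨z', hz'B⟩ = 1 from Subtype.ext a, map_one])
      (fun e => b (by simpa using congrArg Subtype.val (eB.map_eq_one_iff.1 e)))
    rw [← h3, ← Nat.card_eq_finsetCard]
    have hback : ∀ x, Commute (c * t * c⁻¹) x → Commute t (c⁻¹ * x * c) := fun x hx => by
      refine (conj_comm c _ _).1 ?_
      rwa [show c * (c⁻¹ * x * c) * c⁻¹ = x by group]
    have hxB : ∀ x, IsConj z x → Commute (c * t * c⁻¹) x → c⁻¹ * x * c ∈ B := fun x h1 h2 =>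
      hzinT _ ((hmemT _).2 (hback x h2).eq.symm) (h1.trans (isConj_iff.2 ⟨c⁻¹, by rw [inv_inv]⟩))
    refine Nat.card_congr
      { toFun := fun x => ⟨eB ⟨_, hxB x.1 x.2.1.1 x.2.2⟩, ?_⟩
        invFun := fun p => ⟨c * (eB.symm p.1 : B) * c⁻¹, ⟨?_, ?_⟩, ?_⟩
        left_inv := fun x => by ext; simp [mul_assoc]
        right_inv := fun p => by
          ext : 1
          show eB ⟨_, _⟩ = p.1
          rw [← eB.eq_symm_apply]
          ext
          show c⁻¹ * (c * ((eB.symm p.1 : B) : G) * c⁻¹) * c = _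
          group }
    · obtain ⟨a', b'⟩ := sq2 x.1 ((hconjord x.2.1.1).trans hz)
      simp only [Finset.mem_filter, Finset.mem_univ, true_and]
      refine ⟨?_, ?_, fun e => b' ?_⟩
      · rw [hu, ← map_mul, ← map_mul]
        congr 1
        ext
        have hc : Commute (c⁻¹ * x.1 * c) z' := by
          refine (conj_comm c _ _).1 ?_
          rw [hcz', show c * (c⁻¹ * x.1 * c) * c⁻¹ = x.1 by group]
          exact x.2.1.2.symm
        exact hc.eq
      · rw [← map_mul]
        refine eB.map_eq_one_iff.2 (Subtype.ext ?_)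
        show c⁻¹ * x.1 * c * (c⁻¹ * x.1 * c) = 1
        calc c⁻¹ * x.1 * c * (c⁻¹ * x.1 * c) = c⁻¹ * (x.1 * x.1) * c := by group
          _ = 1 := by rw [a']; group
      · have : c⁻¹ * x.1 * c = 1 := by simpa using congrArg Subtype.val (eB.map_eq_one_iff.1 e)
        calc x.1 = c * (c⁻¹ * x.1 * c) * c⁻¹ := by group
          _ = 1 := by rw [this]; group
    · have hp := (Finset.mem_filter.1 p.2).2
      refine ((hBz _ (eB.symm p.1).2 (ord2 _ ?_ ?_)).symm).trans (isConj_iff.2 ⟨c, rfl⟩)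
      · rw [← Subgroup.coe_mul, ← map_mul, hp.2.1, map_one, Subgroup.coe_one]
      · intro e
        exact hp.2.2 (eB.symm.map_eq_one_iff.1 (Subtype.ext e))
    · have hp := (Finset.mem_filter.1 p.2).2
      have hcc : Commute z' ((eB.symm p.1 : B) : G) := by
        have := congrArg eB.symm hp.1
        rw [map_mul, map_mul, show eB.symm u = ⟨z', hz'B⟩ from eB.symm_apply_apply _] at this
        exact (congrArg Subtype.val this).symm
      have := (conj_comm c _ _).2 hcc
      rwa [hcz'] at this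
    · exact (conj_comm c _ _).2 ((hmemT _).1 (hBt (eB.symm p.1).2)).symm
  -- the two counts
  have hpairs : ∀ (w u v : G), u * u = 1 → v * v = 1 → w * w = 1 → w ∈ zpowers (u * v) →
      Commute w u ∧ Commute w v := by
    intro w u v hu hv hw ⟨i, hi⟩
    have hinv : u * (u * v) * u⁻¹ = (u * v)⁻¹ := by
      rw [mul_inv_rev, inv_eq_of_mul_eq_one_right hu, inv_eq_of_mul_eq_one_right hv, ← mul_assoc, hu,
        one_mul]
    have h1 : u * w * u⁻¹ = w := by
      have hi' : (u * v) ^ i = w := hi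
      rw [← hi', ← conj_zpow, hinv, inv_zpow, hi', inv_eq_of_mul_eq_one_right hw]
    have hwu : Commute w u := (mul_inv_eq_iff_eq_mul.1 h1).symm
    have hwuv : Commute w (u * v) := by rw [← hi]; exact Commute.zpow_self _ _
    have hv' : v = u⁻¹ * (u * v) := by group
    exact ⟨hwu, hv' ▸ hwu.inv_right.mul_right hwuv⟩
  have hVB : ∀ a ∈ V, ∀ b ∈ B, a * b = 1 → a = 1 ∧ b = 1 := by
    intro a ha b hb hab
    have : a ∈ V ⊓ B := mem_inf.2 ⟨ha, by rw [eq_inv_of_mul_eq_one_left hab]; exact inv_mem hb⟩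
    rw [hdVB, mem_bot] at this
    subst this
    simpa using hab
  have hcount_t : Nat.card {p : G × G // IsConj z p.1 ∧ IsConj t p.2 ∧ t ∈ zpowers (p.1 * p.2)} = 195 := by
    rw [← a5_pairs, ← Nat.card_eq_finsetCard]
    generalize hS : Finset.univ.filter (fun p : alternatingGroup (Fin 5) × alternatingGroup (Fin 5) =>
      (p.1 * p.1 = 1 ∧ p.1 ≠ 1) ∧ p.2 * p.2 = 1 ∧ (p.1 * p.2) ^ 15 = 1) = S
    have hmemS : ∀ p, p ∈ S ↔ (p.1 * p.1 = 1 ∧ p.1 ≠ 1) ∧ p.2 * p.2 = 1 ∧ (p.1 * p.2) ^ 15 = 1 := fun p => by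
      rw [← hS]; simp only [Finset.mem_filter, Finset.mem_univ, true_and]
    refine Eq.symm (Nat.card_congr (Equiv.ofBijective (fun p =>
      ⟨(((eB.symm p.1.1 : B) : G), t * ((eB.symm p.1.2 : B) : G)), ?_, ?_, ?_⟩) ⟨?_, ?_⟩))
    · have hp := (hmemS p.1).1 p.2
      refine (hBz _ (eB.symm p.1.1).2 (ord2 _ ?_ ?_)).symm
      · rw [← Subgroup.coe_mul, ← map_mul, hp.1.1, map_one, Subgroup.coe_one]
      · exact fun e => hp.1.2 (eB.symm.map_eq_one_iff.1 (Subtype.ext e))
    · have hp := (hmemS p.1).1 p.2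
      have hb2 : ((eB.symm p.1.2 : B) : G) * (eB.symm p.1.2 : B) = 1 := by
        rw [← Subgroup.coe_mul, ← map_mul, hp.2.1, map_one, Subgroup.coe_one]
      have hcb := hcomVB t htV _ (eB.symm p.1.2).2
      refine (hCt _ (mul_mem ((hmemT t).2 rfl) (hBt (eB.symm p.1.2).2)) (ord2 _ ?_ ?_) ?_).symm
      · set b := ((eB.symm p.1.2 : B) : G)
        calc t * b * (t * b) = t * (b * t) * b := by group
          _ = (t * t) * (b * b) := by rw [← hcb]; group
          _ = 1 := by rw [ht2, hb2, one_mul]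
      · exact fun e => ht1 (hVB t htV _ (eB.symm p.1.2).2 e).1
      · intro hm
        have htB : t ∈ B := by simpa using mul_mem hm (inv_mem (eB.symm p.1.2).2)
        have : t ∈ V ⊓ B := mem_inf.2 ⟨htV, htB⟩
        rw [hdVB, mem_bot] at this
        exact ht1 this
    · have hp := (hmemS p.1).1 p.2
      set a := ((eB.symm p.1.1 : B) : G) with ha
      set b := ((eB.symm p.1.2 : B) : G) with hb
      have hab : (a * b) ^ 15 = 1 := by
        have := congrArg (fun x => ((eB.symm x : B) : G)) hp.2.2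
        simpa [map_pow] using this
      have hcab : Commute t (a * b) := hcomVB t htV _ (mul_mem (eB.symm p.1.1).2 (eB.symm p.1.2).2)
      have hat : a * (t * b) = t * (a * b) := by
        rw [← mul_assoc, ← hcomVB t htV a (eB.symm p.1.1).2, mul_assoc]
      have : (a * (t * b)) ^ 15 = t := by
        rw [hat, hcab.mul_pow, hab, mul_one, show 15 = 2 * 7 + 1 from rfl, pow_add, pow_mul, sq, ht2,
          one_pow, one_mul, pow_one]
      have hm := pow_mem (mem_zpowers (a * (t * b))) 15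
      rwa [this] at hm
    · intro p q hpq
      have h1 := congrArg (fun x => x.1.1) hpq
      have h2 := congrArg (fun x => x.1.2) hpq
      simp only [mul_right_inj] at h1 h2
      exact Subtype.ext (Prod.ext (eB.symm.injective (Subtype.ext h1)) (eB.symm.injective (Subtype.ext h2)))
    · rintro ⟨⟨u, v⟩, hu, hv, hm⟩
      obtain ⟨hu2, hu1⟩ := sq2 u ((hconjord hu).trans hz)
      obtain ⟨hv2, hv1⟩ := sq2 v ((hconjord hv).trans ht)
      obtain ⟨htu, htv⟩ := hpairs t u v hu2 hv2 ht2 hm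
      have huB : u ∈ B := hzinT u ((hmemT u).2 htu.eq.symm) hu
      have hvT : v ∈ V ⊔ B := hsupVB.symm ▸ (hmemT v).2 htv.eq.symm
      have hvmem : v ∈ ((V : Set G) * (B : Set G)) := by
        rw [← Subgroup.coe_mul_of_left_le_normalizer_right V B hVn]; exact hvT
      obtain ⟨w, hw, b, hb, rfl⟩ := hvmem
      have hwb := hcomVB w hw b hb
      have hw2 : w * w = 1 := by rw [← sq]; exact hV2 w hw
      have hb2 : b * b = 1 := by
        have e : w * b * (w * b) = (w * w) * (b * b) := by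
          calc w * b * (w * b) = w * (b * w) * b := by group
            _ = (w * w) * (b * b) := by rw [← hwb]; group
        change w * b * (w * b) = 1 at hv2
        rw [e, hw2, one_mul] at hv2
        exact hv2
      change t ∈ zpowers (u * (w * b)) at hm
      rw [show u * (w * b) = w * (u * b) by rw [← mul_assoc, ← hcomVB w hw u huB, mul_assoc],
        ← mem_powers_iff_mem_zpowers] at hm
      obtain ⟨k, hk⟩ := hm
      change (w * (u * b)) ^ k = t at hk
      have hcub : Commute w (u * b) := hcomVB w hw _ (mul_mem huB hb)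
      rw [hcub.mul_pow] at hk
      have hsplit := hVB (t⁻¹ * w ^ k) (mul_mem (inv_mem htV) (pow_mem hw k)) ((u * b) ^ k)
        (pow_mem (mul_mem huB hb) k) (by rw [mul_assoc, hk, inv_mul_cancel])
      have hwk : w ^ k = t := (inv_mul_eq_one.1 hsplit.1).symm
      have hkodd : Odd k := by
        rw [← Nat.not_even_iff_odd]
        rintro ⟨j, rfl⟩
        rw [← two_mul, pow_mul, sq, hw2, one_pow] at hwk
        exact ht1 hwk.symm
      have hwt : w = t := by
        obtain ⟨j, rfl⟩ := hkodd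
        rwa [pow_add, pow_mul, sq, hw2, one_pow, one_mul, pow_one] at hwk
      subst hwt
      set c := eB ⟨u, huB⟩ * eB ⟨b, hb⟩ with hc
      have hck : c ^ k = 1 := by
        rw [hc, ← map_mul, ← map_pow]
        exact eB.map_eq_one_iff.2 (Subtype.ext hsplit.2)
      have h15 : c ^ 15 = 1 := by
        have hg1 : c ^ Nat.gcd k 30 = 1 := pow_gcd_eq_one.2 ⟨hck, a5_exponent c⟩
        have hd : Nat.gcd k 30 ∣ 15 := by
          have hodd : Odd (Nat.gcd k 30) := hkodd.of_dvd_nat (Nat.gcd_dvd_left k 30)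
          exact (Nat.Coprime.dvd_mul_left (Nat.coprime_two_right.2 hodd)).1
            (show Nat.gcd k 30 ∣ 2 * 15 from Nat.gcd_dvd_right k 30)
        obtain ⟨j, hj⟩ := hd
        rw [hj, pow_mul, hg1, one_pow]
      refine ⟨⟨(eB ⟨u, huB⟩, eB ⟨b, hb⟩), ?_⟩, ?_⟩
      · refine (hmemS _).2 ?_
        refine ⟨⟨?_, fun e => hu1 ?_⟩, ?_, h15⟩
        · rw [← map_mul]; exact eB.map_eq_one_iff.2 (Subtype.ext hu2)
        · simpa using congrArg Subtype.val (eB.map_eq_one_iff.1 e)
        · rw [← map_mul]; exact eB.map_eq_one_iff.2 (Subtype.ext hb2)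
      · simp
  have hcount_z : Nat.card {p : G × G // IsConj z p.1 ∧ IsConj t p.2 ∧ z ∈ zpowers (p.1 * p.2)} = 960 := by
    let T := {x : G // IsConj t x ∧ Commute z x}
    let _ : Fintype T := Fintype.ofFinite _
    have hTmem : ∀ v : T, v.1 ∈ H ∧ v.1 * v.1 = 1 ∧ v.1 ∉ Q := fun v => by
      have ho := (hconjord v.2.1).trans ht
      refine ⟨(hmemH _).2 v.2.2.eq.symm, (sq2 _ ho).1, fun hq => ?_⟩
      exact hcross (hQz _ hq ho).symm v.2.1
    have key : ∀ v : T, Nat.card {u : ↥Q // u * u = 1 ∧ ¬ Commute (u : G) v.1} = 8 := by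
      intro v
      rw [Nat.card_eq_fintype_card, Fintype.card_subtype]
      have e : (Finset.univ.filter (fun u : ↥Q => u * u = 1 ∧ ¬ Commute (u : G) v.1)) =
          (Finset.univ.filter (fun u : ↥Q => u * u = 1)) \
            (Finset.univ.filter (fun u : ↥Q => u * u = 1 ∧ Commute (u : G) v.1)) := by
        ext u; simp only [Finset.mem_filter, Finset.mem_univ, true_and, Finset.mem_sdiff]; tauto
      have h4 : (Finset.univ.filter (fun u : ↥Q => u * u = 1 ∧ Commute (u : G) v.1)).card = 4 := by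
        have hins : (Finset.univ.filter (fun u : ↥Q => u * u = 1 ∧ Commute (u : G) v.1)) =
            insert 1 (Finset.univ.filter (fun u : ↥Q => u ≠ 1 ∧ u * u = 1 ∧ Commute (u : G) v.1)) := by
          ext u
          simp only [Finset.mem_filter, Finset.mem_univ, true_and, Finset.mem_insert]
          constructor
          · intro h; by_cases h1 : u = 1 <;> simp [h1, h]
          · rintro (rfl | ⟨-, h⟩)
            · exact ⟨one_mul 1, Commute.one_left _⟩
            · exact h
        rw [hins, Finset.card_insert_of_notMem (by simp)]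
        have h3 := hfour v.1 v.2.1 v.2.2
        rw [← Fintype.card_subtype, ← Nat.card_eq_fintype_card]
        refine congrArg (· + 1) ?_ |>.trans (show 3 + 1 = 4 from rfl)
        rw [← h3]
        refine Nat.card_congr
          { toFun := fun u => ⟨u.1.1, ⟨(hQz _ u.1.2 (ord2 _ (congrArg Subtype.val u.2.2.1)
              (fun e => u.2.1 (Subtype.ext e)))).symm, ((hmemH _).1 (hQH u.1.2)).symm⟩, u.2.2.2.symm⟩
            invFun := fun x => ⟨⟨x.1, (hzin _ ((hmemH _).2 x.2.1.2.eq.symm) x.2.1.1).1⟩,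
              fun e => (sq2 _ ((hconjord x.2.1.1).trans hz)).2 (congrArg Subtype.val e),
              Subtype.ext (sq2 _ ((hconjord x.2.1.1).trans hz)).1, x.2.2.symm⟩ }
      rw [e, Finset.card_sdiff_of_subset (by
        intro u hu
        simp only [Finset.mem_filter, Finset.mem_univ, true_and] at hu ⊢
        exact hu.1), hn12, h4]
    have hsigma : Nat.card ((v : T) × {u : ↥Q // u * u = 1 ∧ ¬ Commute (u : G) v.1}) = 960 := by
      rw [Nat.card_sigma, Finset.sum_congr rfl fun v _ => key v, Finset.sum_const, Finset.card_univ,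
        ← Nat.card_eq_fintype_card, hN, smul_eq_mul]
    rw [← hsigma]
    have hne : ∀ (u : ↥Q) (v : G), u * u = 1 → ¬ Commute (u : G) v →
        (u : G) ≠ 1 ∧ (u : G) ≠ z ∨ v ∉ H := by
      intro u v _ hnc
      by_cases hv : v ∈ H
      · exact Or.inl ⟨fun e => hnc (e ▸ Commute.one_left v),
          fun e => hnc (e ▸ ((hmemH v).1 hv).symm)⟩
      · exact Or.inr hv
    refine Eq.symm (Nat.card_congr (Equiv.ofBijective (fun q => ⟨(q.2.1.1, q.1.1), ?_, q.1.2.1, ?_⟩) ⟨?_, ?_⟩))
    · refine (hQz _ q.2.1.2 (ord2 _ (congrArg Subtype.val q.2.2.1) fun e => q.2.2.2 ?_)).symm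
      rw [e]; exact Commute.one_left _
    · obtain ⟨⟨v, hvT⟩, u, hu2, hnc⟩ := q
      obtain ⟨hvH, hv2, -⟩ := hTmem ⟨v, hvT⟩
      obtain ⟨hu1, huz⟩ := (hne u v hu2 hnc).resolve_right (not_not.2 hvH)
      have hu'Q : v * u * v ∈ Q := by
        have := (mem_normalizer_iff.1 (hHn hvH) u).1 u.2
        rwa [inv_eq_of_mul_eq_one_right hv2] at this
      set u' : ↥Q := ⟨v * u * v, hu'Q⟩ with hu'
      have hu2' : (u : G) * u = 1 := congrArg Subtype.val hu2
      have hu'2 : u' * u' = 1 := Subtype.ext (by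
        show v * u * v * (v * u * v) = 1
        calc v * u * v * (v * u * v) = v * u * (v * v) * u * v := by group
          _ = v * ((u : G) * u) * v := by rw [hv2]; group
          _ = 1 := by rw [hu2', mul_one, hv2])
      have hne' : u' ≠ u := fun e => hnc (by
        have e' : v * u * v = (u : G) := congrArg Subtype.val e
        show (u : G) * v = v * u
        calc (u : G) * v = v * u * v * v := by rw [e']
          _ = v * u * (v * v) := by group
          _ = v * u := by rw [hv2, mul_one])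
      have hsqe : ((u : G) * v) ^ 2 = ((u * u' : ↥Q) : G) := by
        show ((u : G) * v) ^ 2 = u * (v * u * v)
        rw [sq]; group
      show z ∈ zpowers ((u : G) * v)
      rcases hsq (u * u') with h | h
      · -- commuting: the product is `z`
        have hcomm : u * u' = u' * u := by
          calc u * u' = (u * u')⁻¹ := (inv_eq_of_mul_eq_one_right h).symm
            _ = u' * u := by
              rw [mul_inv_rev, inv_eq_of_mul_eq_one_right hu2, inv_eq_of_mul_eq_one_right hu'2]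
        have hu'ne : u' ≠ 1 ∧ u' ≠ zq := by
          refine ⟨fun e => hu1 ?_, fun e => huz ?_⟩
          · have e' : v * u * v = (1 : G) := congrArg Subtype.val e
            calc (u : G) = (v * v) * u * (v * v) := by rw [hv2]; group
              _ = v * (v * u * v) * v := by group
              _ = 1 := by rw [e', mul_one, hv2]
          · have e' : v * u * v = z := congrArg Subtype.val e
            calc (u : G) = (v * v) * u * (v * v) := by rw [hv2]; group
              _ = v * (v * u * v) * v := by group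
              _ = (v * z) * v := by rw [e']
              _ = z := by rw [(hmemH v).1 hvH, mul_assoc, hv2, mul_one]
        rcases commuting_involutions zq hqz2 hqz1 hzc hsq hcom hcen hcardQ (by convert hn12) hu2 hu'2 hcomm
          ⟨fun e => hu1 (congrArg Subtype.val e), fun e => huz (congrArg Subtype.val e)⟩ hu'ne with e | e
        · exact absurd e hne'
        · have e2 : u * u' = zq := by rw [e, ← mul_assoc, hzc, mul_assoc, hu2, mul_one]
          have := pow_mem (mem_zpowers ((u : G) * v)) 2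
          rwa [hsqe, e2] at this
      · have := pow_mem (mem_zpowers ((u : G) * v)) 4
        rw [show 4 = 2 * 2 from rfl, pow_mul, hsqe, sq, ← Subgroup.coe_mul, h] at this
        exact this
    · rintro ⟨⟨v, hv⟩, ⟨u, hu⟩, hu'⟩ ⟨⟨v', hv'⟩, ⟨u'', hu''⟩, hu'''⟩ h
      simp only [Subtype.mk.injEq, Prod.mk.injEq] at h
      obtain ⟨rfl, rfl⟩ := h
      rfl
    · rintro ⟨⟨u, v⟩, hu, hv, hm⟩
      obtain ⟨hu2, hu1⟩ := sq2 u ((hconjord hu).trans hz)
      obtain ⟨hv2, hv1⟩ := sq2 v ((hconjord hv).trans ht)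
      obtain ⟨hzu, hzv⟩ := hpairs z u v hu2 hv2 hz2 hm
      have huQ : u ∈ Q := (hzin u ((hmemH u).2 hzu.eq.symm) hu).1
      refine ⟨⟨⟨v, hv, hzv⟩, ⟨⟨u, huQ⟩, Subtype.ext hu2, fun hc => ?_⟩⟩, rfl⟩
      -- commuting factors give `z = u v`
      change z ∈ zpowers (u * v) at hm
      obtain ⟨i, hi⟩ := hm
      change (u * v) ^ i = z at hi
      have hc' : u * v = v * u := hc
      have hsq' : (u * v) ^ (2 : ℤ) = 1 := by
        rw [zpow_ofNat, sq]
        calc u * v * (u * v) = u * (v * u) * v := by group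
          _ = (u * u) * (v * v) := by rw [← hc']; group
          _ = 1 := by rw [hu2, hv2, one_mul]
      rcases Int.even_or_odd i with ⟨j, hj⟩ | ⟨j, hj⟩
      · rw [hj, ← two_mul, zpow_mul, hsq', one_zpow] at hi
        exact hz1 hi.symm
      · rw [hj, zpow_add, zpow_mul, hsq', one_zpow, one_mul, zpow_one] at hi
        refine (hTmem ⟨v, hv, hzv⟩).2.2 ?_
        have e : v = u * z := by rw [← hi, ← mul_assoc, hu2, one_mul]
        show v ∈ Q
        rw [e]; exact mul_mem huQ hzQ
  have hform := Cfsg.Agent.S0213.result z t hz ht hzt (fun x hx => (hcl x hx).imp (·.symm) (·.symm))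
  rw [hcount_z, hcount_t, hctT, ← hH, hczH] at hform
  omega

end CfsgLib.HJOrder
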